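import Mathlib.AlgebraicGeometry.Sites.Representability
import Mathlib.CategoryTheory.Sites.Over
import Mathlib.CategoryTheory.Limits.Types.Pullbacks

/-! # Presheaves on schemes over a base covered by representable open subfunctors -/

set_option autoImplicit false
set_option backward.isDefEq.respectTransparency false
set_option backward.isDefEq.respectTransparency.types false

universe u

open CategoryTheory CategoryTheory.Limits AlgebraicGeometry Opposite

noncomputable section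

namespace GrothLib.RepOver

variable {S : Scheme.{u}} (F : (Over S)ᵒᵖ ⥤ Type u)

/-- Elements over all structure maps. -/
abbrev Tot (T : Scheme.{u}) : Type u := Σ s : T ⟶ S, F.obj (op (Over.mk s))

variable {F}

theorem map_map {A B C : Over S} (f : B ⟶ A) (g : C ⟶ B) (h : C ⟶ A) (e : g ≫ f = h) (a : F.obj (op A)) :
    F.map g.op (F.map f.op a) = F.map h.op a := by
  subst e
  rw [op_comp, Functor.map_comp, ConcreteCategory.comp_apply]

theorem tot_ext {T : Scheme.{u}} {z w : Tot F T} (e : z.1 = w.1)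
    (h : F.map (Over.homMk (𝟙 T) (by change 𝟙 T ≫ z.1 = w.1; rw [Category.id_comp, e]) :
      Over.mk w.1 ⟶ Over.mk z.1).op z.2 = w.2) : z = w := by
  obtain ⟨s, a⟩ := z
  obtain ⟨t, b⟩ := w
  obtain rfl : s = t := e
  refine congrArg (Sigma.mk s) ?_
  refine Eq.trans ?_ h
  rw [show (Over.homMk (𝟙 T) _ : Over.mk s ⟶ Over.mk s) = 𝟙 _ from Over.OverMorphism.ext rfl, op_id, F.map_id]
  rfl

theorem tot_snd {T : Scheme.{u}} {z w : Tot F T} (h : z = w) (k : Over.mk w.1 ⟶ Over.mk z.1) (hk : k.left = 𝟙 T) :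
    F.map k.op z.2 = w.2 := by
  subst h
  rw [show k = 𝟙 _ from Over.OverMorphism.ext hk, op_id, F.map_id]
  rfl

variable (F)

/-- The presheaf of elements. -/
def totPsh : Scheme.{u}ᵒᵖ ⥤ Type u where
  obj T := Tot F T.unop
  map g := ↾fun z => ⟨g.unop ≫ z.1, F.map (Over.homMk g.unop rfl : Over.mk (g.unop ≫ z.1) ⟶ Over.mk z.1).op z.2⟩
  map_id T := ConcreteCategory.hom_ext _ _ fun z => tot_ext (Category.id_comp _)
    ((map_map _ _ (𝟙 _) (Over.OverMorphism.ext (Category.id_comp _)) z.2).trans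
      (by rw [op_id, F.map_id]; rfl))
  map_comp g g' := by
    refine ConcreteCategory.hom_ext _ _ fun z => tot_ext (Category.assoc _ _ _) ?_
    change F.map _ (F.map _ z.2) = F.map (Over.homMk g'.unop rfl : Over.mk (g'.unop ≫ g.unop ≫ z.1) ⟶ Over.mk (g.unop ≫ z.1)).op
      (F.map (Over.homMk g.unop rfl : Over.mk (g.unop ≫ z.1) ⟶ Over.mk z.1).op z.2)
    refine (map_map _ _ (Over.homMk (g'.unop ≫ g.unop) (Category.assoc _ _ _)) (Over.OverMorphism.ext (Category.id_comp _)) z.2).trans ?_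
    exact (map_map (Over.homMk g.unop rfl : Over.mk (g.unop ≫ z.1) ⟶ Over.mk z.1)
      (Over.homMk g'.unop rfl : Over.mk (g'.unop ≫ g.unop ≫ z.1) ⟶ Over.mk (g.unop ≫ z.1)) _ (Over.OverMorphism.ext rfl) z.2).symm

theorem totPsh_map {T T' : Scheme.{u}} (g : T' ⟶ T) (z : Tot F T) :
    (totPsh F).map g.op z =
      (⟨g ≫ z.1, F.map (Over.homMk g rfl : Over.mk (g ≫ z.1) ⟶ Over.mk z.1).op z.2⟩ : Tot F T') := rfl

theorem totPsh_isSheaf (hF : Presieve.IsSheaf (Scheme.zariskiTopology.over S) F) :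
    Presheaf.IsSheaf Scheme.zariskiTopology (totPsh F) := by
  rw [isSheaf_iff_isSheaf_of_type]
  intro T R hR x hx
  have hxc : ∀ {W₁ W₂ : Scheme.{u}} (g : W₁ ⟶ T) (hg : R g) (k : W₂ ⟶ W₁) (hk : R (k ≫ g)),
      x (k ≫ g) hk = (totPsh F).map k.op (x g hg) :=
    fun g hg k hk => (Presieve.compatible_iff_sieveCompatible x).1 hx g k hg
  have hS : Presieve.IsSheaf Scheme.zariskiTopology (yoneda.obj S) :=
    GrothendieckTopology.Subcanonical.isSheaf_of_isRepresentable _
  let x₁ : Presieve.FamilyOfElements (yoneda.obj S) R.arrows := fun W g hg => (x g hg).1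
  have hx₁ : x₁.Compatible := by
    rw [Presieve.compatible_iff_sieveCompatible]
    intro W₁ W₂ g k hg
    exact congrArg Sigma.fst (hxc g hg k (R.downward_closed hg k))
  obtain ⟨t, ht, htu⟩ := hS R hR x₁ hx₁
  have ht' : ∀ {W : Scheme.{u}} (g : W ⟶ T) (hg : R g), (x g hg).1 = g ≫ t := fun g hg => (ht g hg).symm
  let Q : Sieve (Over.mk t) := (Sieve.overEquiv (Over.mk t)).symm R
  have hQ : Q ∈ (Scheme.zariskiTopology.over S) (Over.mk t) :=
    GrothendieckTopology.overEquiv_symm_mem_over _ _ _ hR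
  let x₂ : Presieve.FamilyOfElements F Q.arrows := fun W g hg =>
    F.map (Over.homMk (𝟙 W.left) (by
      change 𝟙 W.left ≫ (x g.left ((Sieve.overEquiv_symm_iff _ _).1 hg)).1 = W.hom
      rw [Category.id_comp, ht']
      exact Over.w g) : W ⟶ Over.mk (x g.left ((Sieve.overEquiv_symm_iff _ _).1 hg)).1).op
      (x g.left ((Sieve.overEquiv_symm_iff _ _).1 hg)).2
  have hx₂ : x₂.Compatible := by
    rw [Presieve.compatible_iff_sieveCompatible]
    intro W₁ W₂ g k hg
    have hg' : R g.left := (Sieve.overEquiv_symm_iff _ _).1 hg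
    have hk' : R (k.left ≫ g.left) := R.downward_closed hg' k.left
    have e := hxc g.left hg' k.left hk'
    rw [totPsh_map] at e
    have hw : (x (k.left ≫ g.left) hk').1 = W₂.hom := by
      rw [ht', Category.assoc]
      exact (congrArg (k.left ≫ ·) (Over.w g)).trans (Over.w k)
    have hw' : k.left ≫ (x g.left hg').1 = W₂.hom := by
      rw [ht']
      exact (congrArg (k.left ≫ ·) (Over.w g)).trans (Over.w k)
    change F.map (Over.homMk (𝟙 W₂.left) (by exact (Category.id_comp _).trans hw) :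
        W₂ ⟶ Over.mk (x (k.left ≫ g.left) hk').1).op (x (k.left ≫ g.left) hk').2 = F.map k.op (x₂ g hg)
    let c : Over.mk (k.left ≫ (x g.left hg').1) ⟶ Over.mk (x (k.left ≫ g.left) hk').1 :=
      Over.homMk (𝟙 W₂.left) (by exact (Category.id_comp _).trans (hw.trans hw'.symm))
    rw [← tot_snd e.symm (Over.homMk (𝟙 W₂.left) (by exact (Category.id_comp _).trans (hw'.trans hw.symm))) rfl,
      map_map _ _ (Over.homMk (𝟙 W₂.left) (by exact (Category.id_comp _).trans hw') :
        W₂ ⟶ Over.mk (k.left ≫ (x g.left hg').1)) (Over.OverMorphism.ext (Category.id_comp _))]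
    rw [map_map _ _ (Over.homMk k.left hw' : W₂ ⟶ Over.mk (x g.left hg').1) (Over.OverMorphism.ext (Category.id_comp _))]
    exact (map_map _ _ (Over.homMk k.left hw' : W₂ ⟶ Over.mk (x g.left hg').1) (Over.OverMorphism.ext (Category.comp_id _)) _).symm
  obtain ⟨a, ha, hau⟩ := hF Q hQ x₂ hx₂
  have hmem : ∀ {W : Scheme.{u}} (g : W ⟶ T) (hg : R g), Q (Over.homMk g rfl : Over.mk (g ≫ t) ⟶ Over.mk t) :=
    fun g hg => (Sieve.overEquiv_symm_iff _ _).2 hg
  refine ⟨⟨t, a⟩, fun W g hg => ?_, fun z hz => ?_⟩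
  · rw [totPsh_map]
    refine tot_ext (ht' g hg).symm ?_
    change F.map _ (F.map _ a) = _
    rw [ha _ (hmem g hg)]
    refine (map_map _ _ (Over.homMk (𝟙 W) (by exact Category.id_comp _)) (Over.OverMorphism.ext (Category.id_comp _))
      _).trans ?_
    exact tot_snd rfl _ rfl
  · have hzt : z.1 = t := htu _ fun W g hg => congrArg Sigma.fst (hz g hg)
    obtain ⟨t₁, b⟩ := z
    obtain rfl : t₁ = t := hzt
    refine congrArg (Sigma.mk t₁) (hau b fun W g hg => ?_)
    have hg' : R g.left := (Sieve.overEquiv_symm_iff _ _).1 hg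
    have e := hz g.left hg'
    rw [totPsh_map] at e
    change F.map g.op b = F.map _ _
    rw [← tot_snd e (Over.homMk (𝟙 W.left) (by exact (Category.id_comp _).trans (ht' _ hg').symm)) rfl,
      map_map _ _ (Over.homMk (𝟙 W.left) (by exact (Category.id_comp _).trans (Over.w g)) :
        W ⟶ Over.mk (g.left ≫ t₁)) (Over.OverMorphism.ext (Category.id_comp _))]
    exact (map_map _ _ g (Over.OverMorphism.ext (Category.id_comp _)) b).symm

variable {F}

/-- A sheaf covered by representable open subfunctors is representable. -/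
theorem exists_representableBy (hF : Presieve.IsSheaf (Scheme.zariskiTopology.over S) F) {κ : Type u}
    (Z : κ → Over S) (m : ∀ l, F.obj (op (Z l)))
    (V : ∀ (_ : κ) {T : Over S} (_ : F.obj (op T)), T.left.Opens)
    (hV : ∀ (l : κ) {T : Over S} (a : F.obj (op T)) {T' : Over S} (g : T' ⟶ T),
      Set.range g.left ⊆ (V l a : Set T.left) ↔ ∃ h : T' ⟶ Z l, F.map h.op (m l) = F.map g.op a)
    (huniq : ∀ (l : κ) {T : Over S} (h h' : T ⟶ Z l), F.map h.op (m l) = F.map h'.op (m l) → h = h')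
    (hcov : ∀ {T : Over S} (a : F.obj (op T)) (z : T.left), ∃ l, z ∈ V l a) :
    ∃ P : Over S, Nonempty (F.RepresentableBy P) := by
  let G : Sheaf Scheme.zariskiTopology.{u} (Type u) := ⟨totPsh F, totPsh_isSheaf F hF⟩
  let φ : ∀ l, yoneda.obj (Z l).left ⟶ G.1 := fun l => yonedaEquiv.symm ⟨(Z l).hom, m l⟩
  have hφ : ∀ (l : κ) {T : Scheme.{u}} (h : T ⟶ (Z l).left), (φ l).app (op T) h =
      (⟨h ≫ (Z l).hom, F.map (Over.homMk h rfl : Over.mk (h ≫ (Z l).hom) ⟶ Z l).op (m l)⟩ : Tot F T) :=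
    fun l T h => rfl
  have hφ' : ∀ (l : κ) {T : Scheme.{u}} (h : T ⟶ (Z l).left) (z : Tot F T),
      (φ l).app (op T) h = z ↔ ∃ e : h ≫ (Z l).hom = z.1,
        F.map (Over.homMk h e : Over.mk z.1 ⟶ Z l).op (m l) = z.2 := by
    intro l T h z
    rw [hφ]
    constructor
    · rintro rfl
      exact ⟨rfl, rfl⟩
    · rintro ⟨e, he⟩
      exact tot_ext e ((map_map _ _ _ (Over.OverMorphism.ext (Category.id_comp _)) _).trans he)
  have hf : ∀ l, IsOpenImmersion.presheaf (φ l) := fun l => by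
    refine MorphismProperty.relative.of_exists fun T g => ?_
    obtain ⟨t, a, hta⟩ : ∃ (t : T ⟶ S) (a : F.obj (op (Over.mk t))), yonedaEquiv g = (⟨t, a⟩ : Tot F T) :=
      ⟨_, _, rfl⟩
    have hg : ∀ {T' : Scheme.{u}} (s : T' ⟶ T), g.app (op T') s =
        (⟨s ≫ t, F.map (Over.homMk s rfl : Over.mk (s ≫ t) ⟶ Over.mk t).op a⟩ : Tot F T') := by
      intro T' s
      have : g.app (op T') s = G.1.map s.op (yonedaEquiv g) := by
        rw [yonedaEquiv_naturality]; rfl
      rw [this, hta]; rfl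
    let O : T.Opens := V l a
    obtain ⟨h, hh⟩ := (hV l a (Over.homMk O.ι rfl : Over.mk (O.ι ≫ t) ⟶ Over.mk t)).1 (by
      change Set.range O.ι ⊆ (O : Set T)
      rw [Scheme.Opens.range_ι])
    refine ⟨_, yoneda.map h.left, O.ι, ?_, inferInstance⟩
    refine IsPullback.of_forall_isPullback_app fun T' => ?_
    obtain ⟨T', rfl⟩ : ∃ T₁, T' = op T₁ := ⟨T'.unop, rfl⟩
    rw [Types.isPullback_iff]
    refine ⟨?_, fun v v' hv => (cancel_mono O.ι).1 hv.2, fun v s hvs => ?_⟩
    · ext v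
      change (φ l).app (op T') (v ≫ h.left) = g.app (op T') (v ≫ O.ι)
      refine ((hφ' l _ _).2 ⟨?_, ?_⟩).trans (hg _).symm
      · exact (by change (v ≫ h.left) ≫ (Z l).hom = (v ≫ O.ι) ≫ t; rw [Category.assoc, Category.assoc]; exact congrArg (v ≫ ·) (Over.w h))
      change F.map _ (m l) = F.map _ a
      refine Eq.trans (map_map h (Over.homMk v (by exact (Category.assoc _ _ _).symm) : Over.mk ((v ≫ O.ι) ≫ t) ⟶ Over.mk (O.ι ≫ t)) _
        (Over.OverMorphism.ext rfl) (m l)).symm ?_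
      rw [hh]
      exact map_map _ _ _ (Over.OverMorphism.ext rfl) a
    · obtain ⟨v, rfl⟩ : ∃ v' : T' ⟶ (Z l).left, v' = v := ⟨v, rfl⟩
      obtain ⟨s, rfl⟩ : ∃ s' : T' ⟶ T, s' = s := ⟨s, rfl⟩
      obtain ⟨e, he⟩ := (hφ' l v _).1 (hvs.trans (hg s))
      have hr : Set.range s ⊆ Set.range O.ι := by
        rw [Scheme.Opens.range_ι]
        exact (hV l a (Over.homMk s rfl : Over.mk (s ≫ t) ⟶ Over.mk t)).2 ⟨_, he⟩
      refine ⟨IsOpenImmersion.lift O.ι s hr, ?_, IsOpenImmersion.lift_fac _ _ hr⟩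
      let q : Over.mk (s ≫ t) ⟶ Over.mk (O.ι ≫ t) :=
        Over.homMk (IsOpenImmersion.lift O.ι s hr) (by exact IsOpenImmersion.lift_fac_assoc _ _ hr t)
      refine congrArg CommaMorphism.left (huniq l (q ≫ h) (Over.homMk v e) ?_)
      rw [he, op_comp, Functor.map_comp, ConcreteCategory.comp_apply, hh]
      exact map_map _ _ _ (Over.OverMorphism.ext (IsOpenImmersion.lift_fac _ _ hr)) a
  haveI : Presheaf.IsLocallySurjective Scheme.zariskiTopology (Sigma.desc φ) := ⟨fun {T} z => by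
    obtain ⟨t, a⟩ := z
    let 𝒰 : T.OpenCover := T.openCoverOfIsOpenCover (fun l => (V l a : T.Opens))
      (TopologicalSpace.IsOpenCover.mk (eq_top_iff.mpr fun z _ =>
        TopologicalSpace.Opens.mem_iSup.mpr (hcov a z)))
    refine GrothendieckTopology.superset_covering _ ?_ 𝒰.mem_grothendieckTopology
    rintro T' r ⟨W, v, _, ⟨l⟩, rfl⟩
    obtain ⟨h, hh⟩ := (hV l a (Over.homMk (v ≫ 𝒰.f l) rfl : Over.mk ((v ≫ 𝒰.f l) ≫ t) ⟶ Over.mk t)).1 (by
      rintro _ ⟨p, rfl⟩
      exact (v p).2)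
    refine ⟨(Sigma.ι (fun l => yoneda.obj (Z l).left) l).app (op T') h.left, ?_⟩
    rw [← NatTrans.comp_app_apply, Sigma.ι_desc]
    exact (hφ' l h.left _).2 ⟨Over.w h, hh⟩⟩
  have hrep := Scheme.LocalRepresentability.representableBy hf
  obtain ⟨μ₀, m₀, he⟩ : ∃ (μ₀ : _ ⟶ S) (m₀ : F.obj (op (Over.mk μ₀))),
      hrep.homEquiv (𝟙 _) = (⟨μ₀, m₀⟩ : Tot F _) := ⟨_, _, rfl⟩
  have key : ∀ {T : Scheme.{u}} (g : T ⟶ _), hrep.homEquiv g =
      (⟨g ≫ μ₀, F.map (Over.homMk g rfl : Over.mk (g ≫ μ₀) ⟶ Over.mk μ₀).op m₀⟩ : Tot F T) := fun g => by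
    rw [hrep.homEquiv_eq, he]; rfl
  refine ⟨Over.mk μ₀, ⟨{ homEquiv := fun {T} => Equiv.ofBijective (fun g => F.map g.op m₀) ⟨fun g g' h => ?_, fun a => ?_⟩, homEquiv_comp := fun f g => ?_ }⟩⟩
  · refine Over.OverMorphism.ext (hrep.homEquiv.injective ?_)
    rw [key, key]
    refine tot_ext ((Over.w g).trans (Over.w g').symm) ?_
    have h' := congrArg (F.map (Over.homMk (𝟙 T.left) (by exact (Category.id_comp _).trans (Over.w g').symm) :
      Over.mk (g'.left ≫ μ₀) ⟶ T).op) h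
    let c : Over.mk (g'.left ≫ μ₀) ⟶ T :=
      Over.homMk (𝟙 T.left) (by exact (Category.id_comp _).trans (Over.w g').symm)
    let e₁ : Over.mk (g'.left ≫ μ₀) ⟶ Over.mk μ₀ := Over.homMk g.left (by exact (Over.w g).trans (Over.w g').symm)
    let e₂ : Over.mk (g'.left ≫ μ₀) ⟶ Over.mk μ₀ := Over.homMk g'.left rfl
    refine (map_map _ _ e₁ (Over.OverMorphism.ext (Category.id_comp _)) m₀).trans ?_
    refine (map_map g c e₁ (Over.OverMorphism.ext (Category.id_comp _)) m₀).symm.trans ?_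
    exact h'.trans (map_map g' c e₂ (Over.OverMorphism.ext (Category.id_comp _)) m₀)
  · obtain ⟨g, hg⟩ := hrep.homEquiv.surjective (⟨T.hom, a⟩ : Tot F T.left)
    rw [key] at hg
    refine ⟨Over.homMk g (congrArg Sigma.fst hg), ?_⟩
    refine Eq.trans ?_ (tot_snd hg (Over.homMk (𝟙 T.left) (by exact (Category.id_comp _).trans (congrArg Sigma.fst hg))) rfl)
    exact (map_map _ _ _ (Over.OverMorphism.ext (Category.id_comp _)) _).symm
  · simp [Equiv.ofBijective]

end GrothLib.RepOver
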